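import Cfsg.Agent.H788.RatB.Rat_m3
import Cfsg.Agent.H674.RealPerm
import Cfsg.Agent.S0190
import Cfsg.Agent.H492.K4J4
import Cfsg.Agent.H745.RvJ4
import Cfsg.Agent.FastGrp
import Cfsg.Agent.Prune
set_option linter.all false
prune_inst 0x7f00000000000000000000000000000000000000000000000000000000000000000000000000000000000000000000000000000000000000000000000000000000000000000000000000000000000000003ffff7ffffffffffffffffffffffbeffbdebfeffff
open scoped Cfsg.Agent.FastGrp

-- part: H762/RatB/Perm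
section
/-!
# The principal block from a permutation character (helper762, S4891 / TEAM B0-RAT)

`witR_of_perm` : `B ≥ U`, `U` a Sylow `p`-subgroup, the `p`-regular elements of `C_S(U)` lie in `B`; the permutation
character on the cosets of `B` is the sum of the distinct characters of a finite set `T`, whose members other than `1`
and `θ` have degree divisible by `p`; `θ` rational valued of degree prime to `p`. Then `WitR p S`.
-/

set_option autoImplicit false

namespace Cfsg.Agent.H762.RatB.Perm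

open Cfsg Subgroup Cfsg.Agent.Blocks Cfsg.Agent.Blocks.Blau Cfsg.Agent.H145.BR Cfsg.Agent.Characters.Core
  Cfsg.Agent.H493.RatB
open scoped ComplexConjugate

universe u

variable {S : Type u} [Group S]

/-- `y` a `p`-regular element of the centralizer of a Sylow `p`-subgroup `U ≤ B`: its number of fixed points on the
cosets of `B` is the index modulo `p`. -/
theorem card_fixed_modEq [Finite S] {p : ℕ} [hp : Fact p.Prime] {B U : Subgroup S} (hU : IsPGroup p U)
    (hUs : ¬ p ∣ U.index) (hUB : U ≤ B)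
    (hC : ∀ y : S, y ∈ centralizer (U : Set S) → ¬ p ∣ orderOf y → y ∈ B) {y : S}
    (hy : y ∈ centralizer (U : Set S)) (hpy : ¬ p ∣ orderOf y) :
    Nat.card (MulAction.fixedBy (S ⧸ B) y) ≡ B.index [MOD p] := by
  -- `y` fixes the fixed points of `U`
  have key : ∀ x : S ⧸ B, (∀ u ∈ U, u • x = x) → y • x = x := by
    intro x
    induction x using QuotientGroup.induction_on with
    | H g =>
    intro hx
    have h1 : ∀ u ∈ U, g⁻¹ * u * g ∈ B := by
      intro u hu
      have h2 : (QuotientGroup.mk (u * g) : S ⧸ B) = QuotientGroup.mk g := hx u hu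
      have h3 := QuotientGroup.eq.1 h2.symm
      rwa [← mul_assoc] at h3
    -- the two Sylow subgroups of `B`
    let U1 : Subgroup B := U.subgroupOf B
    let U2 : Subgroup B := (U.map (MulAut.conj g⁻¹).toMonoidHom).subgroupOf B
    have hU2B : U.map (MulAut.conj g⁻¹).toMonoidHom ≤ B := by
      rintro _ ⟨u, hu, rfl⟩
      show g⁻¹ * u * g⁻¹⁻¹ ∈ B
      rw [inv_inv]
      exact h1 u hu
    have hcU : Nat.card (U.map (MulAut.conj g⁻¹).toMonoidHom) = Nat.card U :=
      (Nat.card_congr (U.equivMapOfInjective _ (MulAut.conj g⁻¹).injective).toEquiv).symm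
    have hI2 : ¬ p ∣ (U.map (MulAut.conj g⁻¹).toMonoidHom).index := by
      have e1 := U.card_mul_index
      have e2 := (U.map (MulAut.conj g⁻¹).toMonoidHom).card_mul_index
      rw [hcU, ← e1] at e2
      rw [Nat.eq_of_mul_eq_mul_left Nat.card_pos e2]
      exact hUs
    have hP1 : IsPGroup p U1 := hU.comap_of_injective B.subtype B.subtype_injective
    have hP2 : IsPGroup p U2 :=
      (hU.map (MulAut.conj g⁻¹).toMonoidHom).comap_of_injective B.subtype B.subtype_injective
    have hi1 : ¬ p ∣ U1.index := fun h => hUs (by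
      rw [← relIndex_mul_index hUB]
      exact h.mul_right _)
    have hi2 : ¬ p ∣ U2.index := fun h => hI2 (by
      rw [← relIndex_mul_index hU2B]
      exact h.mul_right _)
    let P1 : Sylow p B := hP1.toSylow hi1
    let P2 : Sylow p B := hP2.toSylow hi2
    obtain ⟨b, hb⟩ := MulAction.exists_smul_eq B P1 P2
    have hb' : ∀ v : S, v ∈ U.map (MulAut.conj g⁻¹).toMonoidHom ↔ (b : S)⁻¹ * v * b ∈ U := by
      intro v
      have e1 : ((b • P1 : Sylow p B) : Subgroup B) = U2 := by rw [hb]; rfl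
      rw [Sylow.coe_subgroup_smul] at e1
      constructor
      · intro hv
        have h2 : (⟨v, hU2B hv⟩ : B) ∈ U2 := hv
        rw [← e1] at h2
        obtain ⟨w, hw, hwe⟩ := h2
        have h3 : (b : S) * w * (b : S)⁻¹ = v := congrArg Subtype.val hwe
        have h4 : (w : S) ∈ U := hw
        rw [← h3]
        have h5 : (b : S)⁻¹ * ((b : S) * w * (b : S)⁻¹) * b = w := by group
        rwa [h5]
      · intro hv
        have hvB : v ∈ B := by
          have h5 : v = (b : S) * ((b : S)⁻¹ * v * b) * (b : S)⁻¹ := by group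
          rw [h5]
          exact B.mul_mem (B.mul_mem b.2 (hUB hv)) (B.inv_mem b.2)
        have h2 : (⟨v, hvB⟩ : B) ∈ U2 := by
          rw [← e1]
          refine ⟨⟨(b : S)⁻¹ * v * b, hUB hv⟩, hv, Subtype.ext ?_⟩
          show (b : S) * ((b : S)⁻¹ * v * b) * (b : S)⁻¹ = v
          group
        exact h2
    -- `n = g b` normalizes `U`
    have hn : ∀ u ∈ U, (g * b)⁻¹ * u * (g * b) ∈ U := by
      intro u hu
      have h2 := (hb' (g⁻¹ * u * g)).1 ⟨u, hu, by
        show g⁻¹ * u * g⁻¹⁻¹ = _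
        rw [inv_inv]⟩
      have h3 : (g * (b : S))⁻¹ * u * (g * b) = (b : S)⁻¹ * (g⁻¹ * u * g) * b := by group
      rwa [h3]
    have hn' : ∀ u ∈ U, (g * b) * u * (g * b)⁻¹ ∈ U := by
      intro u hu
      -- the conjugation is injective on the finite set `U`
      have hle : U.map (MulAut.conj (g * (b : S))⁻¹).toMonoidHom ≤ U := by
        rintro _ ⟨v, hv, rfl⟩
        show (g * (b : S))⁻¹ * v * (g * (b : S))⁻¹⁻¹ ∈ U
        rw [inv_inv]
        exact hn v hv
      have hce : Nat.card (U.map (MulAut.conj (g * (b : S))⁻¹).toMonoidHom) = Nat.card U :=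
        (Nat.card_congr (U.equivMapOfInjective _ (MulAut.conj (g * (b : S))⁻¹).injective).toEquiv).symm
      have heq := Subgroup.eq_of_le_of_card_ge hle hce.ge
      rw [← heq] at hu
      obtain ⟨v, hv, rfl⟩ := hu
      have h4 : g * (b : S) * ((MulAut.conj (g * (b : S))⁻¹).toMonoidHom v) * (g * (b : S))⁻¹ = v := by
        show g * (b : S) * ((g * (b : S))⁻¹ * v * (g * (b : S))⁻¹⁻¹) * (g * (b : S))⁻¹ = v
        group
      rw [h4]
      exact hv
    have hyc : (g * b)⁻¹ * y * (g * b) ∈ centralizer (U : Set S) := by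
      rw [mem_centralizer_iff]
      intro u hu
      have h2 := mem_centralizer_iff.1 hy _ (hn' u hu)
      calc u * ((g * (b : S))⁻¹ * y * (g * b))
          = (g * (b : S))⁻¹ * ((g * b) * u * (g * b)⁻¹ * y) * (g * b) := by group
        _ = (g * (b : S))⁻¹ * (y * ((g * b) * u * (g * b)⁻¹)) * (g * b) := by rw [h2]
        _ = _ := by group
    have hyo : ¬ p ∣ orderOf ((g * (b : S))⁻¹ * y * (g * b)) := by
      have h2 := MulEquiv.orderOf_eq (MulAut.conj (g * (b : S))⁻¹) y
      rw [MulAut.conj_apply, inv_inv] at h2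
      rw [h2]
      exact hpy
    have h4 := hC _ hyc hyo
    have h5 : g⁻¹ * y * g ∈ B := by
      have h6 : g⁻¹ * y * g = (b : S) * ((g * (b : S))⁻¹ * y * (g * b)) * (b : S)⁻¹ := by group
      rw [h6]
      exact B.mul_mem (B.mul_mem b.2 h4) (B.inv_mem b.2)
    show (QuotientGroup.mk (y * g) : S ⧸ B) = QuotientGroup.mk g
    symm
    rw [QuotientGroup.eq, ← mul_assoc]
    exact h5
  -- the action on the fixed points of `y`
  have h1 := hU.card_modEq_card_fixedPoints (S ⧸ B)
  let X := {x : S ⧸ B // y • x = x}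
  let act : MulAction U X :=
    { smul := fun u x => ⟨(u : S) • x.1, by
        have h2 := mem_centralizer_iff.1 hy u u.2
        rw [← mul_smul, ← h2, mul_smul, x.2]⟩
      one_smul := fun x => Subtype.ext (by
        show ((1 : U) : S) • x.1 = x.1
        rw [Subgroup.coe_one, one_smul])
      mul_smul := fun g h x => Subtype.ext (by
        show ((g * h : U) : S) • x.1 = (g : S) • ((h : S) • x.1)
        rw [Subgroup.coe_mul, mul_smul]) }
  have h2 := hU.card_modEq_card_fixedPoints X
  have h3 : Nat.card (MulAction.fixedPoints U X) = Nat.card (MulAction.fixedPoints U (S ⧸ B)) := by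
    refine Nat.card_congr
      { toFun := fun x => ⟨x.1.1, fun u => congrArg Subtype.val (x.2 u)⟩
        invFun := fun x => ⟨⟨x.1, key x.1 fun u hu => x.2 ⟨u, hu⟩⟩, fun u => Subtype.ext (x.2 u)⟩
        left_inv := fun x => rfl
        right_inv := fun x => rfl }
  rw [h3] at h2
  exact h2.trans h1.symm

/-- an irreducible character of degree divisible by `p` vanishes modulo `M` at the elements of classes of length prime
to `p` -/
theorem memLocalIdeal_of_dvd [Finite S] {p : ℕ} [hp : Fact p.Prime] {M : Ideal AlgInt} (hM : IsPModular p M)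
    (χ : IrrCharacter S) (hd : p ∣ charDegree (χ : S → ℂ)) {y : S}
    (hy : ¬ p ∣ (centralizer ({y} : Set S)).index) : MemLocalIdeal M ((χ : S → ℂ) y) := by
  have hd0 : (χ : S → ℂ) 1 ≠ 0 := Blocks.Basic.irr_one_ne_zero χ.2
  apply H684.Principal.memLocalIdeal_of_mul hM hy
  have e1 : ((centralizer ({y} : Set S)).index : ℂ) * (χ : S → ℂ) y =
      centralChar (χ : S → ℂ) y * charDegree (χ : S → ℂ) := by
    rw [Blocks.Basic.centralChar_def, ← Blocks.Basic.irr_one_eq_charDegree χ.2]
    field_simp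
  rw [e1]
  refine Blocks.LocalRing.memLocalIdeal_mul_left hM ?_ ?_
  · exact Blocks.LocalRing.memLocalRing_of_isIntegral hM (Blocks.CentralScalar.isIntegral_centralChar χ.2 y)
  · rw [Blocks.LocalRing.memLocalIdeal_natCast_iff hM]
    exact hd

theorem isCharacter_fixed [Finite S] (B : Subgroup S) : IsCharacter S (fixedPointCharacter B) :=
  S0157.isCharacter_fixedBy (S ⧸ B)

theorem fixed_eq_perm [Fintype S] (B : Subgroup S) : fixedPointCharacter B = H674.RealPerm.perm B := by
  have h1 := S0190.result (G := S) (S ⧸ B) (QuotientGroup.mk 1)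
  have h2 : MulAction.stabilizer S (QuotientGroup.mk 1 : S ⧸ B) = B := MulAction.stabilizer_quotient B
  rw [h2] at h1
  exact h1

/-- constituents of the permutation character -/
theorem inner_ne_zero [Fintype S] (B : Subgroup S) (χ : IrrCharacter S)
    (h : ∑ᶠ b : B, (χ : S → ℂ) b ≠ 0) : classInner (fixedPointCharacter B) (χ : S → ℂ) ≠ 0 := by
  classical
  have := Fintype.ofFinite B
  rw [fixed_eq_perm, H674.RealPerm.classInner_perm B _ (isIrr_isClassFunction χ.2), ← map_sum]
  refine mul_ne_zero (inv_ne_zero (by exact_mod_cast Nat.card_pos.ne')) fun h0 => h ?_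
  rw [finsum_eq_sum_of_fintype]
  exact (map_eq_zero _).1 h0

/-- the multiplicities of the permutation character -/
theorem mult [Fintype S] (B : Subgroup S) (T : Finset (IrrCharacter S))
    (h1 : ∀ ψ ∈ T, classInner (fixedPointCharacter B) (ψ : S → ℂ) ≠ 0)
    (h2 : ∑ ψ ∈ T, charDegree (ψ : S → ℂ) = B.index) : fixedPointCharacter B = ∑ ψ ∈ T, (ψ : S → ℂ) := by
  classical
  have := finite_irr (G := S)
  have := Fintype.ofFinite (IrrCharacter S)
  obtain ⟨m, hm⟩ := exists_nat_comb (isCharacter_fixed B)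
  have hpc : ∀ ξ : IrrCharacter S, classInner (fixedPointCharacter B) (ξ : S → ℂ) = m ξ := by
    intro ξ
    rw [hm]
    exact classInner_sum_nsmul_irr m ξ
  have hm1 : ∀ ψ ∈ T, 1 ≤ m ψ := by
    intro ψ hψ
    have := h1 ψ hψ
    rw [hpc] at this
    exact Nat.one_le_iff_ne_zero.2 fun h => this (by rw [h, Nat.cast_zero])
  -- degrees
  have hdeg : ∑ ψ : IrrCharacter S, m ψ * charDegree (ψ : S → ℂ) = B.index := by
    have e1 := congrFun hm 1
    have e2 : fixedPointCharacter B 1 = (B.index : ℂ) := by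
      show ((Nat.card (MulAction.fixedBy (S ⧸ B) (1 : S)) : ℕ) : ℂ) = _
      rw [MulAction.fixedBy_one_eq_univ, Nat.card_coe_set_eq, Set.ncard_univ]
      rfl
    rw [e2, Finset.sum_apply] at e1
    have e3 : ∀ ψ : IrrCharacter S, (m ψ • (ψ : S → ℂ)) 1 = ((m ψ * charDegree (ψ : S → ℂ) : ℕ) : ℂ) := by
      intro ψ
      rw [Pi.smul_apply, Blocks.Basic.irr_one_eq_charDegree ψ.2, nsmul_eq_mul]
      push_cast
      rfl
    rw [Finset.sum_congr rfl fun ψ _ => e3 ψ] at e1
    exact_mod_cast e1.symm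
  have hle : ∀ ψ : IrrCharacter S, (if ψ ∈ T then 1 else 0) * charDegree (ψ : S → ℂ) ≤
      m ψ * charDegree (ψ : S → ℂ) := by
    intro ψ
    refine Nat.mul_le_mul_right _ ?_
    split_ifs with h
    · exact hm1 ψ h
    · exact Nat.zero_le _
  have hsum : ∑ ψ : IrrCharacter S, (if ψ ∈ T then 1 else 0) * charDegree (ψ : S → ℂ) = B.index := by
    rw [← h2]
    simp only [ite_mul, one_mul, zero_mul]
    rw [Finset.sum_ite_mem, Finset.univ_inter]
  have heq := (Finset.sum_eq_sum_iff_of_le (fun ψ _ => hle ψ)).1 (hsum.trans hdeg.symm)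
  have hmm : ∀ ψ : IrrCharacter S, m ψ = if ψ ∈ T then 1 else 0 := fun ψ =>
    (Nat.eq_of_mul_eq_mul_right (Blocks.Basic.charDegree_pos ψ.2) (heq ψ (Finset.mem_univ ψ))).symm
  rw [hm]
  rw [Finset.sum_congr rfl fun ψ _ => by rw [hmm ψ]]
  simp only [ite_smul, one_smul, zero_smul]
  rw [Finset.sum_ite_mem, Finset.univ_inter]

/-- **The principal block from a permutation character.** -/
theorem mem_of_perm [Fintype S] {p : ℕ} [hp : Fact p.Prime] {M : Ideal AlgInt} (hM : IsPModular p M)
    {B U : Subgroup S} (hU : IsPGroup p U) (hUs : ¬ p ∣ U.index) (hUB : U ≤ B)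
    (hC : ∀ y : S, y ∈ centralizer (U : Set S) → ¬ p ∣ orderOf y → y ∈ B)
    (T : Finset (IrrCharacter S)) (hT : fixedPointCharacter B = ∑ ψ ∈ T, (ψ : S → ℂ))
    (θ : IrrCharacter S) (hθ : θ ∈ T) (hd : ¬ p ∣ charDegree (θ : S → ℂ)) (hne : (θ : S → ℂ) ≠ fun _ => 1)
    (hone : H893.Sd.one S ∈ T)
    (hTd : ∀ ψ ∈ T, ψ ≠ θ → (ψ : S → ℂ) ≠ (fun _ => 1) → p ∣ charDegree (ψ : S → ℂ)) :
    θ ∈ principalBlock M S := by
  classical
  have hne' : θ ≠ H893.Sd.one S := fun h => hne (by rw [h]; rfl)
  refine mem_of_value hM hU θ hd fun y hy hpy => ?_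
  -- the rest of the sum
  have hsp : ∀ g : S, fixedPointCharacter B g = 1 + ((θ : S → ℂ) g +
      ∑ ψ ∈ (T.erase (H893.Sd.one S)).erase θ, (ψ : S → ℂ) g) := by
    intro g
    rw [hT, Finset.sum_apply, ← Finset.add_sum_erase T _ hone,
      ← Finset.add_sum_erase (T.erase (H893.Sd.one S)) _ (Finset.mem_erase.2 ⟨hne', hθ⟩)]
    rfl
  have hrest : ∀ g : S, ¬ p ∣ (centralizer ({g} : Set S)).index →
      MemLocalIdeal M (∑ ψ ∈ (T.erase (H893.Sd.one S)).erase θ, (ψ : S → ℂ) g) := by
    intro g hg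
    refine Blocks.LocalRing.memLocalIdeal_sum hM _ _ fun ψ hψ => ?_
    have h1 := Finset.mem_erase.1 hψ
    have h2 := Finset.mem_erase.1 h1.2
    exact memLocalIdeal_of_dvd hM ψ (hTd ψ h2.2 h1.1 fun h => h2.1 (Subtype.ext h)) hg
  have hic : ∀ g ∈ centralizer (U : Set S), ¬ p ∣ (centralizer ({g} : Set S)).index := by
    intro g hg h
    apply hUs
    have hle : U ≤ centralizer ({g} : Set S) := by
      intro u hu
      rw [mem_centralizer_singleton_iff]
      exact mem_centralizer_iff.1 hg u hu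
    rw [← relIndex_mul_index hle]
    exact h.mul_left _
  have h1 := hrest 1 (hic 1 (one_mem _))
  have h2 := hrest y (hic y hy)
  have h3 := card_fixed_modEq hU hUs hUB hC hy hpy
  have h4 := card_fixed_modEq hU hUs hUB hC (one_mem (centralizer (U : Set S)))
    (by rw [orderOf_one]; exact fun h => hp.out.one_lt.ne' (Nat.dvd_one.1 h))
  have h5 : MemLocalIdeal M (fixedPointCharacter B 1 - fixedPointCharacter B y) := by
    have h6 : Nat.card (MulAction.fixedBy (S ⧸ B) y) ≡ Nat.card (MulAction.fixedBy (S ⧸ B) (1 : S)) [MOD p] :=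
      h3.trans h4.symm
    have h7 : ((p : ℕ) : ℤ) ∣ (Nat.card (MulAction.fixedBy (S ⧸ B) (1 : S)) : ℤ) -
        (Nat.card (MulAction.fixedBy (S ⧸ B) y) : ℤ) := (Nat.modEq_iff_dvd).1 h6
    have h8 := memLocalIdeal_intCast hM h7
    push_cast at h8
    exact h8
  have h6 : (θ : S → ℂ) 1 - (θ : S → ℂ) y = (fixedPointCharacter B 1 - fixedPointCharacter B y) -
      (∑ ψ ∈ (T.erase (H893.Sd.one S)).erase θ, (ψ : S → ℂ) 1) +
      (∑ ψ ∈ (T.erase (H893.Sd.one S)).erase θ, (ψ : S → ℂ) y) := by
    rw [hsp 1, hsp y]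
    ring
  rw [h6]
  exact Blocks.LocalRing.memLocalIdeal_add hM (Blocks.LocalRing.memLocalIdeal_sub hM h5 h1) h2

end Cfsg.Agent.H762.RatB.Perm
end

-- part: H762/RatB/J4Sum
section
/-!
# The constituents of the permutation character of `J₄` of degree 173067389, with the sums over `2 ^ 11 : M24` (helper762)
-/

set_option autoImplicit false
set_option linter.style.longLine false
set_option linter.unusedSimpArgs false

open Cfsg

noncomputable section

namespace Cfsg.Agent.H762.RatB.J4Sum

open Cfsg.Agent.J4 Cfsg.Agent.J4.M24Hom Cfsg.Agent.J4.Rel Cfsg.Agent.J4.Index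
  Cfsg.Agent.J4.Upper1 Cfsg.Agent.J4.Upper
  Cfsg.Agent.J4.Pres Cfsg.Agent.J4.Rep112 Cfsg.Agent.H492.NodeHecke Cfsg.Agent.H492.JFour
  Cfsg.Agent.H492.JFourDis Cfsg.Agent.H492.IMJ4 Cfsg.Agent.H492

theorem sum_889111 :
    ∃ χ : IrrCharacter Cfsg.Spor.J4, (χ : Cfsg.Spor.J4 → ℂ) 1 = (889111 : ℕ) ∧
      (∀ σ : ℂ →+* ℂ, ∀ g, σ ((χ : Cfsg.Spor.J4 → ℂ) g) = (χ : Cfsg.Spor.J4 → ℂ) g) ∧
      ∀ (φ : Cfsg.Spor.J4 → ℂ), φ = χ → ∀ i, ∑ᶠ b : BB, φ (cc (rp i) * b) = Nat.card BB * vA i := by
  obtain ⟨e0, e1, e2, e3, e4, e5, e6⟩ := vA_eq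
  have key := K4J4.mainV (vA) (825) (4477/23) e0 ?_ ?_ ?_ (by norm_num)
  · obtain ⟨χ, hχ, hσ, hsm⟩ := key
    refine ⟨χ, ?_, fun σ => hσ σ fun i => ?_, hsm⟩
    swap
    · fin_cases i
      · show σ (vA 0) = vA 0
        rw [e0]
        simp only [map_div₀, map_neg, map_ofNat, map_one, map_zero]
      · show σ (vA 1) = vA 1
        rw [e1]
        simp only [map_div₀, map_neg, map_ofNat, map_one, map_zero]
      · show σ (vA 2) = vA 2
        rw [e2]
        simp only [map_div₀, map_neg, map_ofNat, map_one, map_zero]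
      · show σ (vA 3) = vA 3
        rw [e3]
        simp only [map_div₀, map_neg, map_ofNat, map_one, map_zero]
      · show σ (vA 4) = vA 4
        rw [e4]
        simp only [map_div₀, map_neg, map_ofNat, map_one, map_zero]
      · show σ (vA 5) = vA 5
        rw [e5]
        simp only [map_div₀, map_neg, map_ofNat, map_one, map_zero]
      · show σ (vA 6) = vA 6
        rw [e6]
        simp only [map_div₀, map_neg, map_ofNat, map_one, map_zero]
    push_cast
    linear_combination (23/4477) * hχ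
  · intro i
    obtain ⟨r0, r1, r2, r3, r4, r5, r6⟩ := rows (vA)
    fin_cases i
    · show ∑ j, (PP 0 j : ℂ) * vA j = (825) * vA 0
      rw [r0, e0, e1, e2, e3, e4, e5, e6]
      norm_num
    · show ∑ j, (PP 1 j : ℂ) * vA j = (825) * vA 1
      rw [r1, e0, e1, e2, e3, e4, e5, e6]
      norm_num
    · show ∑ j, (PP 2 j : ℂ) * vA j = (825) * vA 2
      rw [r2, e0, e1, e2, e3, e4, e5, e6]
      norm_num
    · show ∑ j, (PP 3 j : ℂ) * vA j = (825) * vA 3
      rw [r3, e0, e1, e2, e3, e4, e5, e6]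
      norm_num
    · show ∑ j, (PP 4 j : ℂ) * vA j = (825) * vA 4
      rw [r4, e0, e1, e2, e3, e4, e5, e6]
      norm_num
    · show ∑ j, (PP 5 j : ℂ) * vA j = (825) * vA 5
      rw [r5, e0, e1, e2, e3, e4, e5, e6]
      norm_num
    · show ∑ j, (PP 6 j : ℂ) * vA j = (825) * vA 6
      rw [r6, e0, e1, e2, e3, e4, e5, e6]
      norm_num
  · intro x hx
    obtain ⟨r0, r1, r2, r3, r4, r5, r6⟩ := rows x
    have h0 := hx 0
    have h1 := hx 1
    have h2 := hx 2
    have h3 := hx 3
    have h4 := hx 4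
    have h5 := hx 5
    have h6 := hx 6
    rw [r0] at h0
    rw [r1] at h1
    rw [r2] at h2
    rw [r3] at h3
    rw [r4] at h4
    rw [r5] at h5
    rw [r6] at h6
    intro i
    fin_cases i
    · show x 0 = x 0 * vA 0
      rw [e0]
      ring
    · show x 1 = x 0 * vA 1
      rw [e1]
      linear_combination (1/15180) * h0
    · show x 2 = x 0 * vA 2
      rw [e2]
      linear_combination (14972189/289005310440) * h0 + (30287/19038558) * h1 + (-376531/149588670) * h2 + (-34598/14958867) * h3 + (928304/24931445) * h4 + (-508304/14958867) * h5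
    · show x 3 = x 0 * vA 3
      rw [e3]
      linear_combination (3096451/578010620880) * h0 + (5689/38077116) * h1 + (-37187/897532020) * h2 + (-23965/29917734) * h3 + (58628/24931445) * h4 + (-23852/14958867) * h5
    · show x 4 = x 0 * vA 4
      rw [e4]
      linear_combination (2721083/3699267973632) * h0 + (119653/4873870848) * h1 + (674027/19147349760) * h2 + (304879/957367488) * h3 + (-233903/199451560) * h4 + (103325/119670936) * h5
    · show x 5 = x 0 * vA 5
      rw [e5]
      linear_combination (2401387/9248169934080) * h0 + (49033/2436935424) * h1 + (769/5744204928) * h2 + (64595/478683744) * h3 + (79091/99725780) * h4 + (-52589/59835468) * h5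
    · show x 6 = x 0 * vA 6
      rw [e6]
      linear_combination (-1662959/2339458007040) * h0 + (-402667/14178533376) * h1 + (-179127/18567127040) * h2 + (-435025/2785069056) * h3 + (-65141/580222720) * h4 + (131221/348133632) * h5
  · rw [sum_ss (fun i => vA i ^ 2), e0, e1, e2, e3, e4, e5, e6]
    norm_num

theorem sum_1776888 :
    ∃ χ : IrrCharacter Cfsg.Spor.J4, (χ : Cfsg.Spor.J4 → ℂ) 1 = (1776888 : ℕ) ∧
      (∀ σ : ℂ →+* ℂ, ∀ g, σ ((χ : Cfsg.Spor.J4 → ℂ) g) = (χ : Cfsg.Spor.J4 → ℂ) g) ∧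
      ∀ (φ : Cfsg.Spor.J4 → ℂ), φ = χ → ∀ i, ∑ᶠ b : BB, φ (cc (rp i) * b) = Nat.card BB * vB i := by
  obtain ⟨e0, e1, e2, e3, e4, e5, e6⟩ := vB_eq
  have key := K4J4.mainV (vB) (517) (161293/1656) e0 ?_ ?_ ?_ (by norm_num)
  · obtain ⟨χ, hχ, hσ, hsm⟩ := key
    refine ⟨χ, ?_, fun σ => hσ σ fun i => ?_, hsm⟩
    swap
    · fin_cases i
      · show σ (vB 0) = vB 0
        rw [e0]
        simp only [map_div₀, map_neg, map_ofNat, map_one, map_zero]
      · show σ (vB 1) = vB 1
        rw [e1]
        simp only [map_div₀, map_neg, map_ofNat, map_one, map_zero]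
      · show σ (vB 2) = vB 2
        rw [e2]
        simp only [map_div₀, map_neg, map_ofNat, map_one, map_zero]
      · show σ (vB 3) = vB 3
        rw [e3]
        simp only [map_div₀, map_neg, map_ofNat, map_one, map_zero]
      · show σ (vB 4) = vB 4
        rw [e4]
        simp only [map_div₀, map_neg, map_ofNat, map_one, map_zero]
      · show σ (vB 5) = vB 5
        rw [e5]
        simp only [map_div₀, map_neg, map_ofNat, map_one, map_zero]
      · show σ (vB 6) = vB 6
        rw [e6]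
        simp only [map_div₀, map_neg, map_ofNat, map_one, map_zero]
    push_cast
    linear_combination (1656/161293) * hχ
  · intro i
    obtain ⟨r0, r1, r2, r3, r4, r5, r6⟩ := rows (vB)
    fin_cases i
    · show ∑ j, (PP 0 j : ℂ) * vB j = (517) * vB 0
      rw [r0, e0, e1, e2, e3, e4, e5, e6]
      norm_num
    · show ∑ j, (PP 1 j : ℂ) * vB j = (517) * vB 1
      rw [r1, e0, e1, e2, e3, e4, e5, e6]
      norm_num
    · show ∑ j, (PP 2 j : ℂ) * vB j = (517) * vB 2
      rw [r2, e0, e1, e2, e3, e4, e5, e6]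
      norm_num
    · show ∑ j, (PP 3 j : ℂ) * vB j = (517) * vB 3
      rw [r3, e0, e1, e2, e3, e4, e5, e6]
      norm_num
    · show ∑ j, (PP 4 j : ℂ) * vB j = (517) * vB 4
      rw [r4, e0, e1, e2, e3, e4, e5, e6]
      norm_num
    · show ∑ j, (PP 5 j : ℂ) * vB j = (517) * vB 5
      rw [r5, e0, e1, e2, e3, e4, e5, e6]
      norm_num
    · show ∑ j, (PP 6 j : ℂ) * vB j = (517) * vB 6
      rw [r6, e0, e1, e2, e3, e4, e5, e6]
      norm_num
  · intro x hx
    obtain ⟨r0, r1, r2, r3, r4, r5, r6⟩ := rows x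
    have h0 := hx 0
    have h1 := hx 1
    have h2 := hx 2
    have h3 := hx 3
    have h4 := hx 4
    have h5 := hx 5
    have h6 := hx 6
    rw [r0] at h0
    rw [r1] at h1
    rw [r2] at h2
    rw [r3] at h3
    rw [r4] at h4
    rw [r5] at h5
    rw [r6] at h6
    intro i
    fin_cases i
    · show x 0 = x 0 * vB 0
      rw [e0]
      ring
    · show x 1 = x 0 * vB 1
      rw [e1]
      linear_combination (1/15180) * h0
    · show x 2 = x 0 * vB 2
      rw [e2]
      linear_combination (-35743815/406163109352) * h0 + (-8476425/802693892) * h1 + (6694733/315344029) * h2 + (20808180/315344029) * h3 + (-188105760/315344029) * h4 + (163982880/315344029) * h5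
    · show x 3 = x 0 * vB 3
      rw [e3]
      linear_combination (-8538307/6092446640280) * h0 + (-913771/3210775568) * h1 + (2119647/2522752232) * h2 + (414075/315344029) * h3 + (-6231048/315344029) * h4 + (5663720/315344029) * h5
    · show x 4 = x 0 * vB 4
      rw [e4]
      linear_combination (289537735/116974975493376) * h0 + (43496335/154117227264) * h1 + (-19412615/40364035712) * h2 + (-10170945/10091008928) * h3 + (15224877/1261376116) * h4 + (-13620045/1261376116) * h5
    · show x 5 = x 0 * vB 5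
      rw [e5]
      linear_combination (-3553997/3749197932480) * h0 + (-49519/987930944) * h1 + (87081/776231456) * h2 + (86173/194057864) * h3 + (-87105/48514466) * h4 + (65907/48514466) * h5
    · show x 6 = x 0 * vB 6
      rw [e6]
      linear_combination (-4954289/18494067271680) * h0 + (-6488789/112085256192) * h1 + (1884745/29355662336) * h2 + (122121/7338915584) * h3 + (-8107927/3669457792) * h4 + (517185/229341112) * h5
  · rw [sum_ss (fun i => vB i ^ 2), e0, e1, e2, e3, e4, e5, e6]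
    norm_num

theorem sum_95288172 :
    ∃ χ : IrrCharacter Cfsg.Spor.J4, (χ : Cfsg.Spor.J4 → ℂ) 1 = (95288172 : ℕ) ∧
      (∀ σ : ℂ →+* ℂ, ∀ g, σ ((χ : Cfsg.Spor.J4 → ℂ) g) = (χ : Cfsg.Spor.J4 → ℂ) g) ∧
      ∀ (φ : Cfsg.Spor.J4 → ℂ), φ = χ → ∀ i, ∑ᶠ b : BB, φ (cc (rp i) * b) = Nat.card BB * vC i := by
  obtain ⟨e0, e1, e2, e3, e4, e5, e6⟩ := vC_eq
  have key := K4J4.mainV (vC) (-55) (3509/1932) e0 ?_ ?_ ?_ (by norm_num)
  · obtain ⟨χ, hχ, hσ, hsm⟩ := key
    refine ⟨χ, ?_, fun σ => hσ σ fun i => ?_, hsm⟩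
    swap
    · fin_cases i
      · show σ (vC 0) = vC 0
        rw [e0]
        simp only [map_div₀, map_neg, map_ofNat, map_one, map_zero]
      · show σ (vC 1) = vC 1
        rw [e1]
        simp only [map_div₀, map_neg, map_ofNat, map_one, map_zero]
      · show σ (vC 2) = vC 2
        rw [e2]
        simp only [map_div₀, map_neg, map_ofNat, map_one, map_zero]
      · show σ (vC 3) = vC 3
        rw [e3]
        simp only [map_div₀, map_neg, map_ofNat, map_one, map_zero]
      · show σ (vC 4) = vC 4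
        rw [e4]
        simp only [map_div₀, map_neg, map_ofNat, map_one, map_zero]
      · show σ (vC 5) = vC 5
        rw [e5]
        simp only [map_div₀, map_neg, map_ofNat, map_one, map_zero]
      · show σ (vC 6) = vC 6
        rw [e6]
        simp only [map_div₀, map_neg, map_ofNat, map_one, map_zero]
    push_cast
    linear_combination (1932/3509) * hχ
  · intro i
    obtain ⟨r0, r1, r2, r3, r4, r5, r6⟩ := rows (vC)
    fin_cases i
    · show ∑ j, (PP 0 j : ℂ) * vC j = (-55) * vC 0
      rw [r0, e0, e1, e2, e3, e4, e5, e6]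
      norm_num
    · show ∑ j, (PP 1 j : ℂ) * vC j = (-55) * vC 1
      rw [r1, e0, e1, e2, e3, e4, e5, e6]
      norm_num
    · show ∑ j, (PP 2 j : ℂ) * vC j = (-55) * vC 2
      rw [r2, e0, e1, e2, e3, e4, e5, e6]
      norm_num
    · show ∑ j, (PP 3 j : ℂ) * vC j = (-55) * vC 3
      rw [r3, e0, e1, e2, e3, e4, e5, e6]
      norm_num
    · show ∑ j, (PP 4 j : ℂ) * vC j = (-55) * vC 4
      rw [r4, e0, e1, e2, e3, e4, e5, e6]
      norm_num
    · show ∑ j, (PP 5 j : ℂ) * vC j = (-55) * vC 5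
      rw [r5, e0, e1, e2, e3, e4, e5, e6]
      norm_num
    · show ∑ j, (PP 6 j : ℂ) * vC j = (-55) * vC 6
      rw [r6, e0, e1, e2, e3, e4, e5, e6]
      norm_num
  · intro x hx
    obtain ⟨r0, r1, r2, r3, r4, r5, r6⟩ := rows x
    have h0 := hx 0
    have h1 := hx 1
    have h2 := hx 2
    have h3 := hx 3
    have h4 := hx 4
    have h5 := hx 5
    have h6 := hx 6
    rw [r0] at h0
    rw [r1] at h1
    rw [r2] at h2
    rw [r3] at h3
    rw [r4] at h4
    rw [r5] at h5
    rw [r6] at h6
    intro i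
    fin_cases i
    · show x 0 = x 0 * vC 0
      rw [e0]
      ring
    · show x 1 = x 0 * vC 1
      rw [e1]
      linear_combination (1/15180) * h0
    · show x 2 = x 0 * vC 2
      rw [e2]
      linear_combination (344601/2806043240) * h0 + (-1227/277277) * h1 + (70069/4357210) * h2 + (-67862/435721) * h3 + (799632/2178605) * h4 + (-97168/435721) * h5
    · show x 3 = x 0 * vC 3
      rw [e3]
      linear_combination (-196333/16836259440) * h0 + (3407/6654648) * h1 + (-12791/13071630) * h2 + (76387/7842978) * h3 + (-61716/2178605) * h4 + (75028/3921489) * h5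
    · show x 4 = x 0 * vC 4
      rw [e4]
      linear_combination (3919/3346337280) * h0 + (-3919/60842496) * h1 + (134587/557722880) * h2 + (-203755/83658432) * h3 + (135171/17428840) * h4 + (-56809/10457304) * h5
    · show x 5 = x 0 * vC 5
      rw [e5]
      linear_combination (-32357/20721550080) * h0 + (347/16380672) * h1 + (-15331/64352640) * h2 + (29675/9652896) * h3 + (-3843/670340) * h4 + (3551/1206612) * h5
    · show x 6 = x 0 * vC 6
      rw [e6]
      linear_combination (68749/68143595520) * h0 + (-3711/412991488) * h1 + (154519/1622466560) * h2 + (-340727/243369984) * h3 + (90137/50702080) * h4 + (-12149/30421248) * h5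
  · rw [sum_ss (fun i => vC i ^ 2), e0, e1, e2, e3, e4, e5, e6]
    norm_num

theorem sum_4290927 :
    ∃ χ : IrrCharacter Cfsg.Spor.J4, (χ : Cfsg.Spor.J4 → ℂ) 1 = (4290927 : ℕ) ∧
      (∀ σ : ℂ →+* ℂ, ∀ g, σ ((χ : Cfsg.Spor.J4 → ℂ) g) = (χ : Cfsg.Spor.J4 → ℂ) g) ∧
      ∀ (φ : Cfsg.Spor.J4 → ℂ), φ = χ → ∀ i, ∑ᶠ b : BB, φ (cc (rp i) * b) = Nat.card BB * vD i := by
  obtain ⟨e0, e1, e2, e3, e4, e5, e6⟩ := vD_eq
  have key := K4J4.mainV (vD) (-253) (121/3) e0 ?_ ?_ ?_ (by norm_num)
  · obtain ⟨χ, hχ, hσ, hsm⟩ := key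
    refine ⟨χ, ?_, fun σ => hσ σ fun i => ?_, hsm⟩
    swap
    · fin_cases i
      · show σ (vD 0) = vD 0
        rw [e0]
        simp only [map_div₀, map_neg, map_ofNat, map_one, map_zero]
      · show σ (vD 1) = vD 1
        rw [e1]
        simp only [map_div₀, map_neg, map_ofNat, map_one, map_zero]
      · show σ (vD 2) = vD 2
        rw [e2]
        simp only [map_div₀, map_neg, map_ofNat, map_one, map_zero]
      · show σ (vD 3) = vD 3
        rw [e3]
        simp only [map_div₀, map_neg, map_ofNat, map_one, map_zero]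
      · show σ (vD 4) = vD 4
        rw [e4]
        simp only [map_div₀, map_neg, map_ofNat, map_one, map_zero]
      · show σ (vD 5) = vD 5
        rw [e5]
        simp only [map_div₀, map_neg, map_ofNat, map_one, map_zero]
      · show σ (vD 6) = vD 6
        rw [e6]
        simp only [map_div₀, map_neg, map_ofNat, map_one, map_zero]
    push_cast
    linear_combination (3/121) * hχ
  · intro i
    obtain ⟨r0, r1, r2, r3, r4, r5, r6⟩ := rows (vD)
    fin_cases i
    · show ∑ j, (PP 0 j : ℂ) * vD j = (-253) * vD 0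
      rw [r0, e0, e1, e2, e3, e4, e5, e6]
      norm_num
    · show ∑ j, (PP 1 j : ℂ) * vD j = (-253) * vD 1
      rw [r1, e0, e1, e2, e3, e4, e5, e6]
      norm_num
    · show ∑ j, (PP 2 j : ℂ) * vD j = (-253) * vD 2
      rw [r2, e0, e1, e2, e3, e4, e5, e6]
      norm_num
    · show ∑ j, (PP 3 j : ℂ) * vD j = (-253) * vD 3
      rw [r3, e0, e1, e2, e3, e4, e5, e6]
      norm_num
    · show ∑ j, (PP 4 j : ℂ) * vD j = (-253) * vD 4
      rw [r4, e0, e1, e2, e3, e4, e5, e6]
      norm_num
    · show ∑ j, (PP 5 j : ℂ) * vD j = (-253) * vD 5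
      rw [r5, e0, e1, e2, e3, e4, e5, e6]
      norm_num
    · show ∑ j, (PP 6 j : ℂ) * vD j = (-253) * vD 6
      rw [r6, e0, e1, e2, e3, e4, e5, e6]
      norm_num
  · intro x hx
    obtain ⟨r0, r1, r2, r3, r4, r5, r6⟩ := rows x
    have h0 := hx 0
    have h1 := hx 1
    have h2 := hx 2
    have h3 := hx 3
    have h4 := hx 4
    have h5 := hx 5
    have h6 := hx 6
    rw [r0] at h0
    rw [r1] at h1
    rw [r2] at h2
    rw [r3] at h3
    rw [r4] at h4
    rw [r5] at h5
    rw [r6] at h6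
    intro i
    fin_cases i
    · show x 0 = x 0 * vD 0
      rw [e0]
      ring
    · show x 1 = x 0 * vD 1
      rw [e1]
      linear_combination (1/15180) * h0
    · show x 2 = x 0 * vD 2
      rw [e2]
      linear_combination (-315825/213582904612) * h0 + (315825/844201204) * h1 + (839906/331650473) * h2 + (-7534640/331650473) * h3 + (7058880/331650473) * h4 + (-466240/331650473) * h5
    · show x 3 = x 0 * vD 3
      rw [e3]
      linear_combination (-240856241/25629948553440) * h0 + (1490297/5065207224) * h1 + (-812113/7959611352) * h2 + (1235450/2984854257) * h3 + (-1734336/331650473) * h4 + (14020960/2984854257) * h5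
    · show x 4 = x 0 * vD 4
      rw [e4]
      linear_combination (410285/5125989710688) * h0 + (-410285/20260828896) * h1 + (12255/663300946) * h2 + (177295/7959611352) * h3 + (1190457/663300946) * h4 + (-3483385/1989902838) * h5
    · show x 5 = x 0 * vD 5
      rw [e5]
      linear_combination (252846071/102519794213760) * h0 + (-4179577/40521657792) * h1 + (-718127/31838445408) * h2 + (53587399/47757668112) * h3 + (102975/331650473) * h4 + (-3714646/2984854257) * h5
    · show x 6 = x 0 * vD 6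
      rw [e6]
      linear_combination (-191503363/149119700674560) * h0 + (2534149/39293728768) * h1 + (21055/1929602752) * h2 + (-35937413/46310466048) * h3 + (-82057/120600172) * h4 + (16753685/11577616512) * h5
  · rw [sum_ss (fun i => vD i ^ 2), e0, e1, e2, e3, e4, e5, e6]
    norm_num

end Cfsg.Agent.H762.RatB.J4Sum
end
end

-- part: H762/RatB/J4
section
/-!
# S4891 (TEAM B0-RAT): the row `J₄`, `p = 3` (helper762)

`witR_j4` : the constituent of degree 889111 of the permutation character of degree 173067389 is rational valued and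
lies in the principal 3-block: the involution `e` centralizing a Sylow 3-subgroup `U` lies in `2 ^ 11 ≤ 2 ^ 11 : M24`,
`C(U) = Z(U) × ⟨e⟩`, and the other nontrivial constituents have degree divisible by 3.
-/

set_option autoImplicit false
set_option linter.style.longLine false

open Cfsg

noncomputable section

namespace Cfsg.Agent.H762.RatB.J4

open Subgroup Cfsg.Agent.J4 Cfsg.Agent.J4.M24Hom Cfsg.Agent.J4.Packed Cfsg.Agent.J4.Engine Cfsg.Agent.J4.Blocks
  Cfsg.Agent.J4.Nodes Cfsg.Agent.J4.Rel Cfsg.Agent.J4.Upper Cfsg.Agent.J4.Pres Cfsg.Agent.J4.Rep112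
  Cfsg.Agent.H492.JFour Cfsg.Agent.H493.RatB Cfsg.Agent.Characters.Core Cfsg.Agent.H492

universe u

/-! ### the stabilizer of a sextet -/

theorem card_sextet : Nat.card SexAll.K = 138240 := by
  classical
  have hM : Nat.card M24 = 244823040 := Cfsg.Agent.SporadicA.M24Trans.card_M24
  have hA : ∀ t : Fin 1771, ∃ A : M24, Rep (SexTab.RT.get2 t) A := fun t => by
    obtain ⟨g, _, _, h⟩ := SexAll.goodRT t t.2; exact ⟨_, h⟩
  choose A hA using hA
  let f : Fin 1771 → M24 ⧸ BS 5 := fun t => (A t : M24 ⧸ BS 5)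
  have hf : Function.Injective f := by
    intro s t hst
    have h1 : (A s)⁻¹ * A t ∈ BS 5 := QuotientGroup.eq.mp hst
    have h2 : Rep (SexTab.RT.get2 t) (A s * ((A s)⁻¹ * A t)) := by
      rw [mul_inv_cancel_left]; exact hA t
    have h3 := code_inv (hA s) h2 h1 [0] (by decide)
    have h4 := SexAll.codeF s s.2
    rw [h3, SexAll.codeF t t.2] at h4
    exact Fin.ext h4.symm
  have h1 : 1771 ≤ (BS 5).index := by
    have := Nat.card_le_card_of_injective f hf
    rw [Nat.card_eq_fintype_card, Fintype.card_fin] at this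
    exact this
  have h2 := (BS 5).card_mul_index
  rw [hM, SexAll.all.1] at h2
  rw [SexAll.all.1] at h1
  have h3 := SexAll.card_K
  nlinarith

/-! ### the involution -/

/-- the involution in `2 ^ 11` -/
def e : Spor.J4 := eE phi Rep112.t

theorem e_mem : e ∈ BB := by
  show e ∈ HH phi Rep112.t
  rw [HH_eq trel.sq]
  exact subset_closure (Set.mem_insert _ _)

theorem e_sq' : e * e = 1 := e_sq trel

theorem e_comm (w : M24) (hw : w ∈ SexAll.K) : Commute e (phi w) :=
  SexAll.commK phi e (e_comm1 trel) (e_comm2 trel) w hw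

theorem e_ne : e ≠ 1 := by
  intro h
  have h1 : BB = phi.range := by
    show HH phi Rep112.t = _
    rw [HH_eq trel.sq]
    apply le_antisymm
    · rw [closure_le]
      rintro z (rfl | hz)
      · have : eE phi Rep112.t = 1 := h
        rw [this]
        exact one_mem _
      · exact hz
    · rintro z hz
      exact subset_closure (Set.mem_insert_of_mem _ hz)
  have h2 := card_BB
  rw [h1] at h2
  have h3 := (card_range_le (φ := phi)).1
  omega

theorem phi_inj : Function.Injective phi := by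
  have hs : IsSimpleGroup M24 := Cfsg.Agent.S0365.result
  rw [← MonoidHom.ker_eq_bot_iff]
  rcases hs.eq_bot_or_eq_top_of_normal phi.ker inferInstance with h | h
  · exact h
  · exfalso
    have h0 : ∀ g, phi g = 1 := fun g => by
      have : g ∈ phi.ker := by rw [h]; exact mem_top g
      exact this
    have h1 : BB = zpowers e := by
      show HH phi Rep112.t = _
      rw [HH_eq trel.sq]
      apply le_antisymm
      · rw [closure_le]
        rintro z (rfl | ⟨g, rfl⟩)
        · exact mem_zpowers _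
        · rw [h0]
          exact one_mem _
      · rw [zpowers_le]
        exact subset_closure (Set.mem_insert _ _)
    have h2 := card_BB
    rw [h1, Nat.card_zpowers] at h2
    have h3 : orderOf e ∣ 2 := orderOf_dvd_of_pow_eq_one (by rw [pow_two, e_sq'])
    have h4 := Nat.le_of_dvd (by norm_num) h3
    omega

/-! ### the Sylow 3-subgroup -/

theorem exists_U : ∃ U : Subgroup Spor.J4, Nat.card U = 27 ∧ U ≤ BB ∧ ∀ x ∈ U, e * x = x * e := by
  have h3 : Fact (Nat.Prime 3) := ⟨Nat.prime_three⟩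
  have hd : 3 ^ 3 ∣ Nat.card SexAll.K := by rw [card_sextet]; norm_num
  have hfin : Finite SexAll.K := Nat.finite_of_card_ne_zero (by rw [card_sextet]; norm_num)
  obtain ⟨P, hP⟩ := Sylow.exists_subgroup_card_pow_prime 3 hd
  refine ⟨P.map (phi.comp SexAll.K.subtype), ?_, ?_, ?_⟩
  · have hinj : Function.Injective (phi.comp SexAll.K.subtype) := phi_inj.comp SexAll.K.subtype_injective
    rw [← Nat.card_congr (P.equivMapOfInjective _ hinj).toEquiv, hP]
    norm_num
  · rintro _ ⟨x, -, rfl⟩
    exact phi_le ⟨_, rfl⟩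
  · rintro _ ⟨x, -, rfl⟩
    exact (e_comm x x.2).eq

theorem exists_compl : Nonempty (Cfsg.Agent.J4Type.Compl Spor.J4) := by
  have hs : IsSimpleGroup Cfsg.Spor.J4 := Cfsg.Agent.S1703.result.1
  have hfin : Finite Cfsg.Spor.J4 := exact.1
  obtain ⟨z, P, h⟩ := H337.isOfJankoFourType_of_isoJ4 (G := Cfsg.Spor.J4) ⟨MulEquiv.refl _⟩
  obtain ⟨Q, N, M, H, -, -⟩ := Cfsg.Agent.H856.ToHyp.exists_hyp h
  obtain ⟨C, -, -, -⟩ := Cfsg.Agent.H856.Bridge.exists_compl_of_hyp H
  exact ⟨C⟩

theorem index_U {U : Subgroup Spor.J4} (hU : Nat.card U = 27) : ¬ 3 ∣ U.index := by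
  have h := U.card_mul_index
  rw [hU, exact.2.1] at h
  omega

theorem cent_U {U : Subgroup Spor.J4} (hU : Nat.card U = 27) :
    ∃ w : Spor.J4, orderOf w = 6 ∧ centralizer (U : Set Spor.J4) = zpowers w := by
  have h3 : Fact (Nat.Prime 3) := ⟨Nat.prime_three⟩
  have hfin : Finite Cfsg.Spor.J4 := exact.1
  obtain ⟨F⟩ := exists_compl
  obtain ⟨S, hS⟩ := H856.SylowThree.exists_sylow F
  have hp : IsPGroup 3 U := IsPGroup.of_card (n := 3) (by rw [hU]; norm_num)
  let P : Sylow 3 Spor.J4 := hp.toSylow (index_U hU)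
  obtain ⟨g, hg⟩ := MulAction.exists_smul_eq Spor.J4 S P
  have hmem : ∀ x, x ∈ U ↔ g⁻¹ * x * g ∈ H856.SylowThree.R1 F := by
    intro x
    have h1 : ((g • S : Sylow 3 Spor.J4) : Subgroup Spor.J4) = U := by rw [hg]; rfl
    rw [← h1, Sylow.coe_subgroup_smul, ← hS]
    constructor
    · rintro ⟨y, hy, hyx⟩
      have h3 : g * y * g⁻¹ = x := hyx
      have h2 : g⁻¹ * x * g = y := by
        rw [← h3]
        group
      rw [h2]
      exact hy
    · intro hx
      refine ⟨g⁻¹ * x * g, hx, ?_⟩
      show g * (g⁻¹ * x * g) * g⁻¹ = x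
      group
  refine ⟨g * (F.z * F.ρ) * g⁻¹, ?_, ?_⟩
  · have h1 := MulEquiv.orderOf_eq (MulAut.conj g) (F.z * F.ρ)
    rw [MulAut.conj_apply] at h1
    rw [h1, H856.SylowThree.orderOf_zrho]
  · have hc := H745.RvJ4.cent_R1 F
    ext c
    have e1 : c ∈ centralizer (U : Set Spor.J4) ↔ g⁻¹ * c * g ∈ centralizer (H856.SylowThree.R1 F : Set Spor.J4) := by
      rw [mem_centralizer_iff, mem_centralizer_iff]
      constructor
      · intro h r hr
        have hr' : g * r * g⁻¹ ∈ U := by
          rw [hmem]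
          have : g⁻¹ * (g * r * g⁻¹) * g = r := by group
          rw [this]
          exact hr
        have h2 := h _ hr'
        calc r * (g⁻¹ * c * g) = g⁻¹ * (g * r * g⁻¹ * c) * g := by group
          _ = g⁻¹ * (c * (g * r * g⁻¹)) * g := by rw [h2]
          _ = _ := by group
      · intro h u hu
        have h2 := h _ ((hmem u).1 hu)
        calc u * c = g * (g⁻¹ * u * g * (g⁻¹ * c * g)) * g⁻¹ := by group
          _ = g * (g⁻¹ * c * g * (g⁻¹ * u * g)) * g⁻¹ := by rw [h2]
          _ = _ := by group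
    rw [e1, hc, mem_zpowers_iff, mem_zpowers_iff]
    constructor
    · rintro ⟨k, hk⟩
      refine ⟨k, ?_⟩
      rw [conj_zpow, hk]
      group
    · rintro ⟨k, hk⟩
      refine ⟨k, ?_⟩
      rw [conj_zpow] at hk
      rw [← hk]
      group

/-- the 3-regular elements of the centralizer of a Sylow 3-subgroup -/
theorem regular {U : Subgroup Spor.J4} (hU : Nat.card U = 27) (hUe : ∀ x ∈ U, e * x = x * e) {y : Spor.J4}
    (hy : y ∈ centralizer (U : Set Spor.J4)) (h3 : ¬ 3 ∣ orderOf y) : y ∈ BB := by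
  obtain ⟨w, hw, hc⟩ := cent_U hU
  have he : e ∈ centralizer (U : Set Spor.J4) := mem_centralizer_iff.2 fun x hx => (hUe x hx).symm
  have hw6 : w ^ 6 = 1 := by rw [← hw, pow_orderOf_eq_one]
  have key : ∀ x ∈ centralizer (U : Set Spor.J4), ¬ 3 ∣ orderOf x → x = 1 ∨ x = w ^ 3 := by
    intro x hx hx3
    rw [hc] at hx
    obtain ⟨k, hk⟩ := mem_zpowers_iff.1 hx
    obtain ⟨n, hn, hnx⟩ : ∃ n : ℕ, n < 6 ∧ w ^ n = x := by
      refine ⟨(k % 6).toNat, by omega, ?_⟩
      rw [← zpow_natCast, Int.toNat_of_nonneg (by omega), ← hk]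
      have h1 := zpow_mod_orderOf w k
      rw [hw] at h1
      exact_mod_cast h1
    subst hnx
    rw [orderOf_pow, hw] at hx3
    interval_cases n
    · left; exact pow_zero w
    · exact absurd (by norm_num) hx3
    · exact absurd (by norm_num) hx3
    · right; rfl
    · exact absurd (by norm_num) hx3
    · exact absurd (by norm_num) hx3
  have he3 : ¬ 3 ∣ orderOf e := by
    have h1 : orderOf e ∣ 2 := orderOf_dvd_of_pow_eq_one (by rw [pow_two, e_sq'])
    intro h2
    exact absurd (h2.trans h1) (by norm_num)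
  have hew : e = w ^ 3 := (key e he he3).resolve_left e_ne
  rcases key y hy h3 with h | h
  · rw [h]; exact one_mem _
  · rw [h, ← hew]; exact e_mem

/-! ### the row -/

theorem finsum_zero {χ : IrrCharacter Spor.J4} {v : Fin 7 → ℂ} (hv : v 0 = 1)
    (h : ∀ (φ : Cfsg.Spor.J4 → ℂ), φ = χ → ∀ i, ∑ᶠ b : BB, φ (cc (rp i) * b) = Nat.card BB * v i) :
    ∑ᶠ b : BB, (χ : Spor.J4 → ℂ) b ≠ 0 := by
  have h1 := h _ rfl 0
  have h2 : cc (rp 0) = 1 := cc_zero
  rw [h2, hv, mul_one] at h1
  simp only [one_mul] at h1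
  rw [h1, card_BB]
  norm_num

theorem ratV {χ : IrrCharacter Spor.J4} (h : ∀ σ : ℂ →+* ℂ, ∀ g, σ ((χ : Cfsg.Spor.J4 → ℂ) g) = (χ : Cfsg.Spor.J4 → ℂ) g) :
    RatV (χ : Spor.J4 → ℂ) := by
  have hfin : Finite Cfsg.Spor.J4 := exact.1
  intro g
  refine Cfsg.Agent.Characters.GaloisBasic.exists_rat_of_forall_ringEquiv ?_ fun σ => h (σ : ℂ →+* ℂ) g
  exact (Cfsg.Agent.Characters.GaloisBasic.isIntegral_apply (isIrr_isCharacter χ.2) g).tower_top

theorem witR : WitR 3 Spor.J4 := by
  classical
  have h3 : Fact (Nat.Prime 3) := ⟨Nat.prime_three⟩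
  have hfin : Finite Cfsg.Spor.J4 := exact.1
  have := Fintype.ofFinite Cfsg.Spor.J4
  obtain ⟨U, hU, hUB, hUe⟩ := exists_U
  obtain ⟨s, hs⟩ : ∃ s : ℂ, s ^ 2 = 33 := IsAlgClosed.exists_pow_nat_eq 33 (by norm_num)
  obtain ⟨A, hA, hAσ, hAs⟩ := J4Sum.sum_889111
  obtain ⟨B, hB, -, hBs⟩ := J4Sum.sum_1776888
  obtain ⟨C, hC, -, hCs⟩ := J4Sum.sum_95288172
  obtain ⟨D, hD, -, hDs⟩ := J4Sum.sum_4290927
  obtain ⟨E, hE, -, hEs⟩ := K4J4.val_35411145 s hs
  obtain ⟨E', hE', -, hEs'⟩ := K4J4.val_35411145 (-s) (by rw [neg_sq, hs])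
  -- degrees
  have hone : ((H893.Sd.one Spor.J4 : IrrCharacter Spor.J4) : Spor.J4 → ℂ) 1 = ((1 : ℕ) : ℂ) := by
    rw [Nat.cast_one]; rfl
  have dA := Blocks.Basic.charDegree_of_eq hA
  have dB := Blocks.Basic.charDegree_of_eq hB
  have dC := Blocks.Basic.charDegree_of_eq hC
  have dD := Blocks.Basic.charDegree_of_eq hD
  have dE := Blocks.Basic.charDegree_of_eq hE
  have dE' := Blocks.Basic.charDegree_of_eq hE'
  have d1 := Blocks.Basic.charDegree_of_eq hone
  have hs0 : s ≠ 0 := by
    rintro rfl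
    norm_num at hs
  have hEE : E ≠ E' := by
    intro h
    have h1 := hEs _ rfl 1
    have h2 := hEs' _ rfl 1
    rw [← h] at h2
    rw [h1] at h2
    have h4 : ((Nat.card BB : ℕ) : ℂ) ≠ 0 := by rw [card_BB]; norm_num
    have h5 := mul_left_cancel₀ h4 h2
    rw [(IMJ4.vE_eq s).2.1, (IMJ4.vE_eq (-s)).2.1] at h5
    apply hs0
    linear_combination (15180 / 34) * h5
  have hne : ∀ {χ ψ : IrrCharacter Spor.J4} {a b : ℕ}, charDegree (χ : Spor.J4 → ℂ) = a →
      charDegree (ψ : Spor.J4 → ℂ) = b → a ≠ b → χ ≠ ψ := by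
    rintro χ ψ a b h1 h2 h3 rfl
    exact h3 (h1.symm.trans h2)
  let T : Finset (IrrCharacter Spor.J4) := {H893.Sd.one Spor.J4, A, B, C, D, E, E'}
  have hsum : ∀ f : IrrCharacter Spor.J4 → ℕ, ∑ ψ ∈ T, f ψ = f (H893.Sd.one Spor.J4) + (f A + (f B + (f C + (f D +
      (f E + f E'))))) := by
    intro f
    rw [Finset.sum_insert, Finset.sum_insert, Finset.sum_insert, Finset.sum_insert, Finset.sum_insert,
      Finset.sum_pair hEE]
    · simp only [Finset.mem_insert, Finset.mem_singleton, not_or]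
      exact ⟨hne dD dE (by norm_num), hne dD dE' (by norm_num)⟩
    · simp only [Finset.mem_insert, Finset.mem_singleton, not_or]
      exact ⟨hne dC dD (by norm_num), hne dC dE (by norm_num), hne dC dE' (by norm_num)⟩
    · simp only [Finset.mem_insert, Finset.mem_singleton, not_or]
      exact ⟨hne dB dC (by norm_num), hne dB dD (by norm_num), hne dB dE (by norm_num), hne dB dE' (by norm_num)⟩
    · simp only [Finset.mem_insert, Finset.mem_singleton, not_or]
      exact ⟨hne dA dB (by norm_num), hne dA dC (by norm_num), hne dA dD (by norm_num), hne dA dE (by norm_num),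
        hne dA dE' (by norm_num)⟩
    · simp only [Finset.mem_insert, Finset.mem_singleton, not_or]
      exact ⟨hne d1 dA (by norm_num), hne d1 dB (by norm_num), hne d1 dC (by norm_num), hne d1 dD (by norm_num),
        hne d1 dE (by norm_num), hne d1 dE' (by norm_num)⟩
  have hvE : ∀ s, IMJ4.vE s 0 = 1 := fun s => (IMJ4.vE_eq s).1
  have hT := Perm.mult BB T (by
    intro ψ hψ
    simp only [T, Finset.mem_insert, Finset.mem_singleton] at hψ
    apply Perm.inner_ne_zero
    rcases hψ with rfl | rfl | rfl | rfl | rfl | rfl | rfl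
    · have e1 : ∑ᶠ b : BB, ((H893.Sd.one Spor.J4 : IrrCharacter Spor.J4) : Spor.J4 → ℂ) b = ∑ᶠ _b : BB, (1 : ℂ) := rfl
      have := Fintype.ofFinite BB
      rw [e1, finsum_eq_sum_of_fintype, Finset.sum_const, Finset.card_univ, ← Nat.card_eq_fintype_card, card_BB]
      norm_num
    · exact finsum_zero (IMJ4.vA_eq).1 hAs
    · exact finsum_zero (IMJ4.vB_eq).1 hBs
    · exact finsum_zero (IMJ4.vC_eq).1 hCs
    · exact finsum_zero (IMJ4.vD_eq).1 hDs
    · exact finsum_zero (hvE s) hEs
    · exact finsum_zero (hvE (-s)) hEs') (by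
    rw [hsum, d1, dA, dB, dC, dD, dE, dE', exact.2.2.1])
  intro M hM
  have hA1 : (A : Spor.J4 → ℂ) ≠ fun _ => 1 := by
    intro h
    rw [h] at hA
    norm_num at hA
  refine ⟨A, ?_, hA1, by rw [dA]; norm_num, ratV hAσ⟩
  refine Perm.mem_of_perm hM (B := BB) (U := U) (IsPGroup.of_card (n := 3) (by rw [hU]; norm_num)) (index_U hU) hUB
    (fun y hy hy3 => regular hU hUe hy hy3) T hT A (by simp [T]) (by rw [dA]; norm_num) hA1 (by simp [T]) ?_
  intro ψ hψ h1 h2
  simp only [T, Finset.mem_insert, Finset.mem_singleton] at hψ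
  rcases hψ with rfl | rfl | rfl | rfl | rfl | rfl | rfl
  · exact absurd rfl h2
  · exact absurd rfl h1
  · rw [dB]; norm_num
  · rw [dC]; norm_num
  · rw [dD]; norm_num
  · rw [dE]; norm_num
  · rw [dE']; norm_num

/-- **S4891, the row `J₄`, `p = 3`.** -/
theorem witR_j4 {S : Type u} [Group S] (h : Spor.IsoJ4 S) : WitR 3 S := by
  have h3 : Fact (Nat.Prime 3) := ⟨Nat.prime_three⟩
  obtain ⟨e⟩ := h
  have : Finite Cfsg.Spor.J4 := exact.1
  have : Finite S := Finite.of_equiv _ e.symm.toEquiv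
  exact witR.congr e

end Cfsg.Agent.H762.RatB.J4
end
end
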